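import Groth.Agent.RatBlow.Modif
import Groth.Agent.ModLeray1.Support

/-!
Normal modifications dominating modifications over a Nagata base.
-/

set_option autoImplicit false
set_option backward.isDefEq.respectTransparency false
set_option backward.isDefEq.respectTransparency.types false
set_option linter.style.haveILetI false

universe u

open CategoryTheory CategoryTheory.Limits AlgebraicGeometry TopologicalSpace

noncomputable section

namespace Groth.Agent.RatModel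

open Groth.Agent.RatBlow

/-- Birationality of composites. -/
theorem exists_isIso_comp {Z' Z S : Scheme.{u}} [IrreducibleSpace Z] (ν : Z' ⟶ Z) (p : Z ⟶ S)
    (hν : ∃ D : Z.Opens, (D : Set Z).Nonempty ∧ IsIso (ν ∣_ D))
    (hp : ∃ U : S.Opens, (U : Set S).Nonempty ∧ IsIso (p ∣_ U)) :
    ∃ U : S.Opens, (U : Set S).Nonempty ∧ IsIso ((ν ≫ p) ∣_ U) := by
  obtain ⟨D, hD, hDi⟩ := hν
  obtain ⟨U, hU, hUi⟩ := hp
  haveI := hUi
  let W : U.toScheme.Opens := inv (p ∣_ U) ⁻¹ᵁ ((p ⁻¹ᵁ U).ι ⁻¹ᵁ D)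
  obtain ⟨z, hzD, hzU⟩ := nonempty_preirreducible_inter D.2 (p ⁻¹ᵁ U).2 hD (PtBlow.nonempty_preimage hU hUi)
  have hinv : ∀ w : (p ⁻¹ᵁ U).toScheme, inv (p ∣_ U) ((p ∣_ U) w) = w := fun w => by
    rw [← Scheme.Hom.comp_apply, IsIso.hom_inv_id]; rfl
  have hle : U.ι ''ᵁ W ≤ U := by
    rintro _ ⟨w, -, rfl⟩
    exact w.2
  refine ⟨U.ι ''ᵁ W, ⟨_, (p ∣_ U) ⟨z, hzU⟩, ?_, rfl⟩, ?_⟩
  · show inv (p ∣_ U) ((p ∣_ U) ⟨z, hzU⟩) ∈ (p ⁻¹ᵁ U).ι ⁻¹ᵁ D
    rw [hinv]; exact hzD
  · haveI h1 : IsIso (p ∣_ U.ι ''ᵁ W) :=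
      ModLeray1.isIso_restrict_of_le_isoLocus p (hle.trans (PtBlow.le_isoLocus hUi))
    have h2 : p ⁻¹ᵁ (U.ι ''ᵁ W) ≤ D := fun y hy => by
      obtain ⟨w, hw, hwy⟩ := hy
      have : w = (p ∣_ U) ⟨y, hle ⟨w, hw, hwy⟩⟩ :=
        Subtype.ext (hwy.trans (morphismRestrict_base_coe p U ⟨y, hle ⟨w, hw, hwy⟩⟩).symm)
      rw [this] at hw
      have hw' : inv (p ∣_ U) ((p ∣_ U) ⟨y, hle ⟨_, ‹_›, hwy⟩⟩) ∈ (p ⁻¹ᵁ U).ι ⁻¹ᵁ D := hw
      rw [hinv] at hw'
      exact hw'
    haveI : IsIso (ν ∣_ p ⁻¹ᵁ (U.ι ''ᵁ W)) :=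
      ModLeray1.isIso_restrict_of_le_isoLocus ν (h2.trans (PtBlow.le_isoLocus hDi))
    rw [morphismRestrict_comp]
    infer_instance

/-- The normalization of a scheme of finite type over a Nagata ring. -/
theorem exists_normal_cover {A : Type u} [CommRing A] (hN : CAlg.IsNagata A) [IsNoetherianRing A]
    {Z : Scheme.{u}} [IsIntegral Z] (p : Z ⟶ Spec (CommRingCat.of A)) [IsProper p] :
    ∃ (Z' : Scheme.{u}) (ν : Z' ⟶ Z), IsFinite ν ∧ IsIntegral Z' ∧ Pi1.IsNormalScheme Z' ∧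
      ∃ D : Z.Opens, (D : Set Z).Nonempty ∧ IsIso (ν ∣_ D) := by
  haveI : IsLocallyNoetherian Z := LocallyOfFiniteType.isLocallyNoetherian p
  haveI : CompactSpace Z := QuasiCompact.compactSpace_of_compactSpace p
  haveI : IsNoetherian Z := {}
  haveI : Z.IsSeparated := ⟨by
    rw [← terminal.comp_from p]; infer_instance⟩
  haveI : QuasiCompact (Z.fromSpecStalk (genericPoint Z)) := inferInstance
  haveI : QuasiSeparated (Z.fromSpecStalk (genericPoint Z)) := inferInstance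
  haveI hfin : IsFinite (Curv2.normalizationι Z) := by
    refine Groth.Agent.S9674.result (Z.fromSpecStalk (genericPoint Z)) (fun U => ?_) (locallyFinite_of_finite _) fun z _ => ?_
    · letI : Algebra A Γ(Z, U.1) := (el p U.1).toAlgebra
      haveI : Algebra.FiniteType A Γ(Z, U.1) := by
        have h1 := p.finiteType_appLE (isAffineOpen_top _) U.2 (le_top : U.1 ≤ p ⁻¹ᵁ ⊤)
        have h2 : el p U.1 = (p.appLE ⊤ U.1 le_top).hom.comp (Scheme.ΓSpecIso (CommRingCat.of A)).inv.hom := rfl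
        rw [← RingHom.finiteType_algebraMap, RingHom.algebraMap_toAlgebra, h2]
        exact h1.comp (RingHom.FiniteType.of_surjective _
          (Scheme.ΓSpecIso (CommRingCat.of A)).symm.commRingCatIsoToRingEquiv.surjective)
      exact Groth.Agent.S0566.result A hN Γ(Z, U.1)
    · refine RingHom.FiniteType.essFiniteType (RingHom.FiniteType.of_surjective _ ?_)
      intro r
      obtain ⟨r', rfl⟩ := Ideal.Quotient.mk_surjective r
      obtain ⟨s, hs⟩ := (Z.fromSpecStalk (genericPoint Z)).stalkMap_surjective z r'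
      exact ⟨Z.residue _ s, by rw [← hs]; rfl⟩
  haveI : IsIntegral (Curv2.normalization Z) := NormSmoothBC.isIntegral_normalization (X := Z)
  exact ⟨Curv2.normalization Z, Curv2.normalizationι Z, hfin, inferInstance, NormSmoothBC.isNormal (X := Z),
    BMCoh.exists_isIso_normalizationι Z⟩

end Groth.Agent.RatModel
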