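import Groth.Agent.RatModel.Cover
import Groth.Agent.DivDesc.Scheme
import Groth.Agent.FlatModBC.StratFlat
import Groth.Agent.FpqcDescent.IdealGlue
import Groth.Agent.DerPerf.Local
import Groth.Agent.W7FlatBC.Sections
import Groth.Agent.CohQC.Restrict

/-!
Localisation of a modification at a point.
-/

set_option autoImplicit false
set_option backward.isDefEq.respectTransparency false
set_option backward.isDefEq.respectTransparency.types false
set_option linter.style.haveILetI false

universe u

open CategoryTheory CategoryTheory.Limits AlgebraicGeometry TopologicalSpace Opposite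

noncomputable section

namespace Groth.Agent.RatModel

theorem bijective_stalkMap {P B : Scheme.{u}} (j : P ⟶ B) [IsPreimmersion j] [Flat j] (p : P) :
    Function.Bijective (j.stalkMap p) := by
  refine ⟨?_, j.stalkMap_surjective p⟩
  letI := (j.stalkMap p).hom.toAlgebra
  haveI : Module.Flat (B.presheaf.stalk (j p)) (P.presheaf.stalk p) := Flat.stalkMap j p
  haveI : IsLocalHom (algebraMap (B.presheaf.stalk (j p)) (P.presheaf.stalk p)) :=
    inferInstanceAs (IsLocalHom (j.stalkMap p).hom)
  haveI := Module.FaithfullyFlat.of_flat_of_isLocalHom (A := B.presheaf.stalk (j p)) (B := P.presheaf.stalk p)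
  exact FaithfulSMul.algebraMap_injective (B.presheaf.stalk (j p)) (P.presheaf.stalk p)

/-- The localisation of a modification at a point is a normal modification of the local ring. -/
theorem pullback_stalk {X B P : Scheme.{u}} [IsIntegral X] [IsIntegral B] (g : B ⟶ X) (U : X.Opens)
    (hU : (U : Set X).Nonempty) [IsIso (g ∣_ U)] (hBn : Pi1.IsNormalScheme B) (x : X) (j : P ⟶ B)
    (q : P ⟶ Spec (X.presheaf.stalk x)) (h : IsPullback j q g (X.fromSpecStalk x)) :
    Flat j ∧ IsIntegral P ∧ Pi1.IsNormalScheme P ∧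
      ∃ V : (Spec (X.presheaf.stalk x)).Opens, (V : Set (Spec (X.presheaf.stalk x))).Nonempty ∧ IsIso (q ∣_ V) := by
  haveI := DivDesc.flat_fromSpecStalk X x
  haveI : Flat j := MorphismProperty.of_isPullback (P := @Flat) h.flip inferInstance
  haveI : IsPreimmersion j := MorphismProperty.of_isPullback (P := @IsPreimmersion) h.flip inferInstance
  let e : ∀ p, B.presheaf.stalk (j p) ≃+* P.presheaf.stalk p := fun p =>
    RingEquiv.ofBijective (j.stalkMap p).hom (bijective_stalkMap j p)
  haveI : ∀ p, IsDomain (P.presheaf.stalk p) := fun p => (e p).symm.toMulEquiv.isDomain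
  have hn : Pi1.IsNormalScheme P := fun p => by
    obtain ⟨h1, h2⟩ := hBn (j p)
    exact ⟨inferInstance, IsIntegrallyClosed.of_equiv (e p)⟩
  haveI : IsReduced P := isReduced_of_isReduced_stalk P
  -- the generic point
  have hηU : genericPoint X ∈ U := ((genericPoint_spec X).mem_open_set_iff U.2).2 (by simpa using hU)
  obtain ⟨w, hw⟩ := (g ∣_ U).surjective ⟨genericPoint X, hηU⟩
  have hgw : g w.1 = genericPoint X := (morphismRestrict_base_coe g U w).symm.trans (congrArg Subtype.val hw)
  have hη : g (genericPoint B) = genericPoint X :=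
    ((genericPoint_specializes (g (genericPoint B))).antisymm
      (hgw ▸ (genericPoint_specializes w.1).map g.continuous)).eq.symm
  have hi : genericPoint X ∈ Set.range (X.fromSpecStalk x) := by
    rw [Scheme.range_fromSpecStalk]
    exact genericPoint_specializes x
  obtain ⟨t, ht⟩ := hi
  obtain ⟨p₁, hp₁, hp₂⟩ := Scheme.Pullback.exists_preimage_pullback (f := g) (g := X.fromSpecStalk x)
    (genericPoint B) t (by rw [hη, ht])
  let p := h.isoPullback.inv p₁
  have hp : j p = genericPoint B := by
    rw [← hp₁, ← Scheme.Hom.comp_apply, IsPullback.isoPullback_inv_fst]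
  haveI : PreirreducibleSpace P := by
    refine ⟨?_⟩
    have : (Set.univ : Set P) = closure {p} := by
      symm
      refine Set.eq_univ_of_forall fun z => specializes_iff_mem_closure.1 ?_
      rw [← j.isEmbedding.isInducing.specializes_iff, hp]
      exact genericPoint_specializes _
    rw [this]
    exact isIrreducible_singleton.closure.2
  haveI : Nonempty P := ⟨p⟩
  haveI : IrreducibleSpace P := ⟨⟨p⟩⟩
  haveI : IsIntegral P := isIntegral_of_irreducibleSpace_of_isReduced P
  refine ⟨inferInstance, inferInstance, hn, X.fromSpecStalk x ⁻¹ᵁ U, ⟨t, show X.fromSpecStalk x t ∈ U by rwa [ht]⟩, ?_⟩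
  let V := X.fromSpecStalk x ⁻¹ᵁ U
  have s1 : IsPullback ((q ⁻¹ᵁ V).ι ≫ j) (q ∣_ V) g ((X.fromSpecStalk x ∣_ U) ≫ U.ι) := by
    have := (isPullback_morphismRestrict q V).flip.paste_horiz h
    rwa [← morphismRestrict_ι] at this
  have t1 : IsPullback (g ⁻¹ᵁ U).ι (g ∣_ U) g U.ι := (isPullback_morphismRestrict g U).flip
  let l := t1.lift ((q ⁻¹ᵁ V).ι ≫ j) ((q ∣_ V) ≫ (X.fromSpecStalk x ∣_ U)) (by rw [Category.assoc]; exact s1.w)
  have s2 : IsPullback l (q ∣_ V) (g ∣_ U) (X.fromSpecStalk x ∣_ U) := by
    refine IsPullback.of_right ?_ (t1.lift_snd _ _ _) t1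
    rwa [t1.lift_fst]
  exact MorphismProperty.of_isPullback (P := MorphismProperty.isomorphisms Scheme) s2
    (MorphismProperty.isomorphisms.infer_property _)

theorem comap_ι_fromSpecStalk {X : Scheme.{u}} {W : X.Opens} (hW : IsAffineOpen W) {x : X} (hx : x ∈ W)
    [IsNoetherianRing Γ(X, W)] [CompactSpace X] [QuasiSeparatedSpace X]
    (I : (Spec (X.presheaf.stalk x)).IdealSheafData) :
    ∃ L : X.IdealSheafData, BlowUp.IsFiniteTypeIdeal L ∧ L.comap (X.fromSpecStalk x) = I := by
  have hle : (⊤ : (Spec (X.presheaf.stalk x)).Opens) ≤ X.fromSpecStalk x ⁻¹ᵁ W := fun t _ => by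
    have : X.fromSpecStalk x t ⤳ x := by
      have hr : X.fromSpecStalk x t ∈ Set.range (X.fromSpecStalk x) := ⟨t, rfl⟩
      rwa [Scheme.range_fromSpecStalk] at hr
    exact this.mem_open W.2 hx
  let T : (Spec (X.presheaf.stalk x)).affineOpens := ⟨⊤, isAffineOpen_top _⟩
  let φ := ((X.fromSpecStalk x).appLE W ⊤ hle).hom
  let J := I.ideal T
  have hφ : (X.fromSpecStalk x).appLE W ⊤ hle =
      X.presheaf.germ W x hx ≫ (Scheme.ΓSpecIso (X.presheaf.stalk x)).inv := by
    rw [Scheme.Hom.appLE, Scheme.fromSpecStalk_app hx, Category.assoc, Category.assoc, ← Functor.map_comp]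
    rw [show ((homOfLE le_top).op ≫ (homOfLE hle).op : op (⊤ : (Spec (X.presheaf.stalk x)).Opens) ⟶ op ⊤) = 𝟙 _
      from Subsingleton.elim _ _, CategoryTheory.Functor.map_id, Category.comp_id]
  have hmap : (J.comap φ).map φ = J := by
    simp only [φ, hφ, CommRingCat.hom_comp]
    rw [← Ideal.comap_comap, ← Ideal.map_map]
    letI := TopCat.Presheaf.algebra_section_stalk X.presheaf (⟨x, hx⟩ : W)
    haveI := hW.isLocalization_stalk ⟨x, hx⟩
    erw [IsLocalization.map_comap (hW.primeIdealOf ⟨x, hx⟩).asIdeal.primeCompl (X.presheaf.stalk x)]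
    exact Ideal.map_comap_of_surjective _
      (Scheme.ΓSpecIso (X.presheaf.stalk x)).symm.commRingCatIsoToRingEquiv.surjective J
  obtain ⟨L, hLfg, hLU⟩ := FlatModBC.exists_fg_extend (S := X) ⟨W, hW⟩ (J.comap φ) (IsNoetherian.noetherian _)
  refine ⟨L, hLfg, Scheme.IdealSheafData.ext_of_isAffine ?_⟩
  rw [FpqcDescent.ideal_comap_appLE L (X.fromSpecStalk x) ⟨W, hW⟩ T hle, hLU]
  exact hmap

end Groth.Agent.RatModel
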