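import Groth.Agent.RatModel.Local
import Groth.Agent.S7338
import Groth.Agent.S1274
import Groth.Agent.S8910
import Groth.Agent.S4418
import Groth.Agent.S10855
import Groth.Agent.BlowUpExist.Global
import Groth.Agent.BlowUpExist.Proper
import Groth.Agent.PtBlow.H1Tools

/-!
Rational singularities of a modification with maximal first cohomology.
-/

set_option autoImplicit false
set_option backward.isDefEq.respectTransparency false
set_option backward.isDefEq.respectTransparency.types false
set_option linter.style.haveILetI false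

universe u

open CategoryTheory CategoryTheory.Limits AlgebraicGeometry TopologicalSpace Opposite
open scoped TensorProduct

noncomputable section

namespace Groth.Agent.RatModel

theorem map_genericPoint {B X : Scheme.{u}} [IsIntegral B] [IsIntegral X] (g : B ⟶ X) {U : X.Opens}
    (hU : (U : Set X).Nonempty) (hi : IsIso (g ∣_ U)) : g (genericPoint B) = genericPoint X := by
  obtain ⟨w, hw⟩ := (g ∣_ U).surjective ⟨genericPoint X, ((genericPoint_spec X).mem_open_set_iff U.2).2 (by simpa using hU)⟩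
  have hgw : g w.1 = genericPoint X := (morphismRestrict_base_coe g U w).symm.trans (congrArg Subtype.val hw)
  exact ((genericPoint_specializes (g (genericPoint B))).antisymm
    (hgw ▸ (genericPoint_specializes w.1).map g.continuous)).eq.symm

theorem ne_bot_of_disjoint {X : Scheme.{u}} {I : X.IdealSheafData} {U : Set X} (hU : U.Nonempty)
    (h : Disjoint (I.support : Set X) U) : I ≠ ⊥ := fun hI => by
  obtain ⟨x, hx⟩ := hU
  refine Set.disjoint_left.1 h ?_ hx
  rw [hI, Scheme.IdealSheafData.support_bot]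
  exact trivial

theorem isZero_of_gg {X : Scheme.{u}} {F : X.Modules} (hg : Curv2.IsGloballyGenerated F)
    (h : Subsingleton Γ(F, ⊤)) : IsZero F := by
  obtain ⟨ι, p, hp⟩ := hg
  have hhom : ∀ φ : SheafOfModules.unit X.ringCatSheaf ⟶ F, φ = 0 := fun φ => by
    refine F.unitHomEquiv.injective (Subtype.ext (funext fun U => ?_))
    have e : ∀ ψ : SheafOfModules.unit X.ringCatSheaf ⟶ F, (F.unitHomEquiv ψ).val U =
        F.val.map (homOfLE (le_top : U.unop ≤ ⊤)).op ((F.unitHomEquiv ψ).val (op ⊤)) := fun ψ =>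
      ((F.unitHomEquiv ψ).property (homOfLE (le_top : U.unop ≤ ⊤)).op).symm
    rw [e φ, e 0, show (F.unitHomEquiv φ).val (op ⊤) = (F.unitHomEquiv 0).val (op ⊤) from h.elim _ _]
  have hp0 : p = 0 := Sigma.hom_ext _ _ fun i => (hhom _).trans comp_zero.symm
  haveI := hp
  rw [IsZero.iff_id_eq_zero, ← cancel_epi p, Category.comp_id, comp_zero]
  exact hp0

variable (A : Type u) [CommRing A] [IsDomain A] [IsLocalRing A] [IsNoetherianRing A] [IsIntegrallyClosed A]
  (hdim : ringKrullDim A = 2)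
  {X X' : Scheme.{u}} [X.Over (Spec (CommRingCat.of A))] [X'.Over (Spec (CommRingCat.of A))]
  [IsProper (X ↘ Spec (CommRingCat.of A))] [IsProper (X' ↘ Spec (CommRingCat.of A))] [IsIntegral X] [IsIntegral X']
  (hX : ∃ U : (Spec (CommRingCat.of A)).Opens, (U : Set (Spec (CommRingCat.of A))).Nonempty ∧
    IsIso ((X ↘ Spec (CommRingCat.of A)) ∣_ U))
  (hX' : ∃ U : (Spec (CommRingCat.of A)).Opens, (U : Set (Spec (CommRingCat.of A))).Nonempty ∧
    IsIso ((X' ↘ Spec (CommRingCat.of A)) ∣_ U))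
  (hXn : Pi1.IsNormalScheme X) (g : X' ⟶ X)
  (hg : g ≫ (X ↘ Spec (CommRingCat.of A)) = X' ↘ Spec (CommRingCat.of A))

include hdim hX hX' hXn hg in
theorem length_le : Module.length A (Coh.HH X (Coh.structureModule X) 1) ≤
    Module.length A (Coh.HH X' (Coh.structureModule X') 1) := by
  haveI := RPushQC.hasInjectiveResolutions X'
  rw [(Groth.Agent.S7338.result A hdim X X' hX hX' hXn g hg).2.2.2]
  exact le_add_right le_rfl

include hdim hX hX' hXn hg in
theorem subsingleton_preimage (hfin : Module.length A (Coh.HH X (Coh.structureModule X) 1) ≠ ⊤)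
    (hle : Module.length A (Coh.HH X' (Coh.structureModule X') 1) ≤
      Module.length A (Coh.HH X (Coh.structureModule X) 1))
    {W : X.Opens} (hW : IsAffineOpen W) :
    Subsingleton (CohSite.HU (Coh.toAb (Coh.structureModule X')) 1 (g ⁻¹ᵁ W)) := by
  haveI := RPushQC.hasInjectiveResolutions X'
  haveI : IsProper g := by
    haveI : IsProper (g ≫ (X ↘ Spec (CommRingCat.of A))) := by rw [hg]; infer_instance
    exact IsProper.of_comp g (X ↘ Spec (CommRingCat.of A))
  obtain ⟨hgg, -, -, hlen⟩ := Groth.Agent.S7338.result A hdim X X' hX hX' hXn g hg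
  have h0 : Module.length A (Coh.HH X ((Coh.Rpush g 1).obj (Coh.structureModule X')) 0) = 0 := by
    rw [hlen] at hle
    exact nonpos_iff_eq_zero.1 ((ENat.add_le_add_iff_left hfin).1 (hle.trans (le_of_eq (add_zero _).symm)))
  haveI h0' : Subsingleton (Coh.HH X ((Coh.Rpush g 1).obj (Coh.structureModule X')) 0) :=
    Module.length_eq_zero_iff.1 h0
  have hz := isZero_of_gg hgg (ModLeray1.z0 _).symm.toEquiv.subsingleton
  have hsec : Subsingleton Γ((Coh.Rpush g 1).obj (Coh.structureModule X'), W) :=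
    subsingleton_of_forall_eq 0 fun s => by
      have := congrArg (fun φ => Scheme.Modules.Hom.app φ W s) (hz.eq_of_src (𝟙 _) 0)
      simpa using this
  have hO : Coh.IsQCoh (Coh.structureModule X') := QC.isQCoh_unit X'
  obtain ⟨a⟩ := CohFinite.hu_equiv_sections g (Coh.structureModule X') hO hW 1
  obtain ⟨e⟩ := CohQC.toAb_rpush_iso g (Coh.structureModule X') 1
  let e' := (((sheafToPresheaf _ _).mapIso e).app (op W)).addCommGroupIsoToAddEquiv.trans a.symm
  exact @Equiv.subsingleton _ _ e'.symm.toEquiv hsec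

omit [X'.Over (Spec (CommRingCat.of A))] [IsProper (X' ↘ Spec (CommRingCat.of A))] [IsIntegral X'] in
include hdim hX hXn in
/-- The points of a modification with maximal first cohomology are rational singularities. -/
theorem isRationalSing_stalk (hN : CAlg.IsNagata A)
    (hfin : Module.length A (Coh.HH X (Coh.structureModule X) 1) ≠ ⊤)
    (hmax : ∀ (X' : Scheme.{u}) [X'.Over (Spec (CommRingCat.of A))], IsProper (X' ↘ Spec (CommRingCat.of A)) →
      IsIntegral X' → Pi1.IsNormalScheme X' → (∃ U : (Spec (CommRingCat.of A)).Opens,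
        (U : Set (Spec (CommRingCat.of A))).Nonempty ∧ IsIso ((X' ↘ Spec (CommRingCat.of A)) ∣_ U)) →
      Module.length A (Coh.HH X' (Coh.structureModule X') 1) ≤ Module.length A (Coh.HH X (Coh.structureModule X) 1))
    (x : X) : Curv2.IsRationalSing (X.presheaf.stalk x) := by
  intro Y qY hqY hYi hYn hbirY
  haveI := hqY
  haveI := hYi
  haveI : IsLocallyNoetherian X := LocallyOfFiniteType.isLocallyNoetherian (X ↘ Spec (CommRingCat.of A))
  haveI : CompactSpace X := QuasiCompact.compactSpace_of_compactSpace (X ↘ Spec (CommRingCat.of A))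
  haveI : AlgebraicGeometry.IsNoetherian X := {}
  haveI : X.IsSeparated := ⟨by
    rw [← terminal.comp_from (X ↘ Spec (CommRingCat.of A))]; infer_instance⟩
  -- the dominating blow-up
  obtain ⟨U₀, hU₀, hU₀i⟩ := hbirY
  haveI := hU₀i
  haveI : AlgebraicGeometry.IsNoetherian (Spec (X.presheaf.stalk x)) := inferInstance
  obtain ⟨I, S', b', hb', hadm, k', hk'⟩ :=
    Groth.Agent.S1274.result qY U₀ (NoetherianSpace.isCompact _)
  obtain ⟨W, hW, hxW, -⟩ := exists_isAffineOpen_mem_and_subset (Opens.mem_top x)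
  haveI : IsNoetherianRing Γ(X, W) := IsLocallyNoetherian.component_noetherian ⟨W, hW⟩
  obtain ⟨L, hL, hLI⟩ := comap_ι_fromSpecStalk hW hxW I
  have hI0 : I ≠ ⊥ := ne_bot_of_disjoint hU₀ hadm.2
  have hL0 : L ≠ ⊥ := fun h => hI0 (by
    refine Scheme.IdealSheafData.support_eq_top_iff.1 ?_
    rw [← hLI, Scheme.IdealSheafData.support_comap, h, Scheme.IdealSheafData.support_bot]
    rfl)
  obtain ⟨B, b, hb⟩ := BlowUpExist.exists_isBlowUp X L
  haveI : IsIntegral B := W7Fib.isIntegral_blowUp hL0 hb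
  haveI : IsProper b := (Groth.Agent.S4418.result b (Groth.Agent.S8910.result L hL b hb)).2
  have hbb : ∃ U : X.Opens, (U : Set X).Nonempty ∧ IsIso (b ∣_ U) :=
    ⟨L.support.compl, ⟨genericPoint X, W7Fib.genericPoint_notMem_support hL0⟩, BlowUpLib.isIso_restrict hb⟩
  obtain ⟨B', ν, hν, hB'i, hB'n, hνb⟩ := exists_normal_cover hN (b ≫ X ↘ Spec (CommRingCat.of A))
  haveI := hν
  haveI := hB'i
  let g := ν ≫ b
  obtain ⟨Ug, hUg, hgi⟩ := exists_isIso_comp ν b hνb hbb
  haveI := hgi
  letI : B'.Over (Spec (CommRingCat.of A)) := ⟨g ≫ X ↘ Spec (CommRingCat.of A)⟩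
  haveI : IsProper (B' ↘ Spec (CommRingCat.of A)) :=
    inferInstanceAs (IsProper ((ν ≫ b) ≫ X ↘ Spec (CommRingCat.of A)))
  have hB' : ∃ U : (Spec (CommRingCat.of A)).Opens, (U : Set (Spec (CommRingCat.of A))).Nonempty ∧
      IsIso ((B' ↘ Spec (CommRingCat.of A)) ∣_ U) :=
    exists_isIso_comp g (X ↘ Spec (CommRingCat.of A)) ⟨Ug, hUg, hgi⟩ hX
  have hvan := subsingleton_preimage A hdim hX hB' hXn g rfl hfin
    (hmax B' inferInstance inferInstance hB'n hB') hW
  have hcart : BlowUp.IsEffCartierIdeal (L.comap g) := by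
    rw [Scheme.IdealSheafData.comap_comp]
    obtain ⟨D, hD, hDi⟩ := hνb
    exact RatBlow.cartier_comap_dominant ν (map_genericPoint ν hD hDi) hb.1
  -- localisation
  let Γw := Γ(X, W)
  let φ := X.presheaf.germ W x hxW
  let s : (g ⁻¹ᵁ W).toScheme ⟶ Spec (CommRingCat.of Γw) := (g ∣_ W) ≫ hW.isoSpec.hom
  have hφ : φ.hom.Flat := by
    letI := (X.presheaf.germ W x hxW).hom.toAlgebra
    haveI := hW.isLocalization_stalk ⟨x, hxW⟩
    exact IsLocalization.flat (X.presheaf.stalk x) (hW.primeIdealOf ⟨x, hxW⟩).asIdeal.primeCompl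
  let P := pullback s (Spec.map φ)
  let qP : P ⟶ Spec (X.presheaf.stalk x) := pullback.snd _ _
  have t : IsPullback (g ⁻¹ᵁ W).ι s g hW.fromSpec :=
    (isPullback_morphismRestrict g W).flip.of_iso (Iso.refl _) (Iso.refl _) hW.isoSpec (Iso.refl _)
      ((Category.comp_id _).trans (Category.id_comp _).symm) (Category.id_comp s).symm
      ((Category.comp_id _).trans (Category.id_comp _).symm)
      ((Category.comp_id _).trans (Iso.hom_inv_id_assoc hW.isoSpec W.ι).symm)
  have h : IsPullback (pullback.fst s (Spec.map φ) ≫ (g ⁻¹ᵁ W).ι) qP g (X.fromSpecStalk x) := by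
    rw [← hW.fromSpecStalk_eq_fromSpecStalk hxW]
    exact (IsPullback.of_hasPullback s (Spec.map φ)).paste_horiz t
  obtain ⟨hfl, hPi, hPn, V, hV, hVi⟩ := pullback_stalk g Ug hUg hB'n x _ qP h
  haveI := hfl
  haveI := hPi
  haveI : IsProper qP := MorphismProperty.of_isPullback (P := @IsProper) h inferInstance
  have hcartP : BlowUp.IsEffCartierIdeal (I.comap qP) := by
    rw [← hLI, ← Scheme.IdealSheafData.comap_comp, ← h.w, Scheme.IdealSheafData.comap_comp]
    exact Groth.Agent.S10855.result _ _ hcart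
  obtain ⟨l, hl, -⟩ := hb'.2 P qP hcartP
  let k : P ⟶ Y := l ≫ k'
  have hk : k ≫ qY = qP := by rw [Category.assoc, hk', hl]
  haveI : IsProper k := by
    haveI : IsProper (k ≫ qY) := by rw [hk]; infer_instance
    exact IsProper.of_comp k qY
  obtain ⟨z, hzU, hzV⟩ := nonempty_preirreducible_inter U₀.2 V.2 hU₀ hV
  have hUY : IsIso (qY ∣_ (U₀ ⊓ V)) :=
    ModLeray1.isIso_restrict_of_le_isoLocus _ (inf_le_left.trans (PtBlow.le_isoLocus hU₀i))
  have hUP : IsIso (qP ∣_ (U₀ ⊓ V)) :=
    ModLeray1.isIso_restrict_of_le_isoLocus _ (inf_le_right.trans (PtBlow.le_isoLocus hVi))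
  haveI := PtBlow.isIso_restrict_left hk (U₀ ⊓ V) hUP hUY
  refine PtBlow.subsingleton_h1_of_dominated k
    (PtBlow.bijective_app_of_birational k hYn _ (PtBlow.nonempty_preimage (U := U₀ ⊓ V) ⟨z, ⟨hzU, hzV⟩⟩ hUY)) ?_
  -- flat base change
  letI : (g ⁻¹ᵁ W).toScheme.Over (Spec (CommRingCat.of Γw)) := ⟨s⟩
  letI : P.Over (Spec (CommRingCat.of (X.presheaf.stalk x : Type u))) := ⟨qP⟩
  haveI : IsProper s := by
    haveI : IsProper g := inferInstanceAs (IsProper (ν ≫ b))
    haveI : IsProper (g ∣_ W) := IsZariskiLocalAtTarget.restrict (P := @IsProper) ‹IsProper g› W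
    infer_instance
  haveI : CompactSpace (g ⁻¹ᵁ W).toScheme := QuasiCompact.compactSpace_of_compactSpace s
  haveI : QuasiSeparatedSpace (g ⁻¹ᵁ W).toScheme := quasiSeparatedSpace_of_quasiSeparated s
  letI : Algebra Γw (X.presheaf.stalk x : Type u) := φ.hom.toAlgebra
  obtain ⟨bc⟩ := W7FlatBC.nonempty_hh_baseChange_hom φ.hom hφ (pullback.fst s (Spec.map φ))
    (IsPullback.of_hasPullback s (Spec.map φ)) (Coh.structureModule (g ⁻¹ᵁ W).toScheme)
    (QC.isQCoh_unit _) 1
  obtain ⟨r⟩ := CohQC.hu_restrict (Coh.structureModule B') (g ⁻¹ᵁ W) 1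
  let e1 : (Coh.structureModule B').restrict (g ⁻¹ᵁ W).ι ≅ Coh.structureModule (g ⁻¹ᵁ W).toScheme :=
    (Scheme.Modules.restrictFunctorIsoPullback _).app _ ≪≫ DerPerf.pullUnitIso _
  haveI h1 : Subsingleton (Coh.HH (g ⁻¹ᵁ W).toScheme (Coh.structureModule (g ⁻¹ᵁ W).toScheme) 1) := by
    haveI := @Equiv.subsingleton _ _ r.symm.toEquiv hvan
    exact (CohFinite.hhEquiv Γw e1 1).symm.toEquiv.subsingleton
  haveI : Subsingleton ((X.presheaf.stalk x : Type u) ⊗[Γw]
      Coh.HH (g ⁻¹ᵁ W).toScheme (Coh.structureModule (g ⁻¹ᵁ W).toScheme) 1) :=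
    subsingleton_of_forall_eq 0 fun z => by
      induction z using TensorProduct.induction_on with
      | zero => rfl
      | tmul a m => rw [Subsingleton.elim m 0, TensorProduct.tmul_zero]
      | add u v hu hv => rw [hu, hv, add_zero]
  haveI := bc.symm.toEquiv.subsingleton
  exact (CohFinite.hhEquiv (X.presheaf.stalk x : Type u) (DerPerf.pullUnitIso (pullback.fst s (Spec.map φ))) 1).symm.toEquiv.subsingleton

end Groth.Agent.RatModel
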